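import Cfsg.Agent.Lib.HeType.Coords.Mul
import Cfsg.Agent.Lib.Golay.SL52

/-!
Coordinates of the centraliser of a transvection in SL(5, 2), and their transport along an isomorphism of centralisers.
-/

set_option autoImplicit false
set_option maxRecDepth 100000
set_option linter.unusedSectionVars false

namespace CfsgLib.HeType.SLFive

open Matrix Subgroup CfsgLib.HeType

/-- The special linear group. -/
abbrev S5 : Type := Matrix.SpecialLinearGroup (Fin 5) (ZMod 2)

/-- The matrix of a code: row `i` in the bits `5 i` to `5 i + 4`. -/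
def mat5 (c : ℕ) : Matrix (Fin 5) (Fin 5) (ZMod 2) :=
  Matrix.of fun i j => if c.testBit (5 * i.val + j.val) then 1 else 0

/-- The special linear element of a code. -/
def sl5 (c : ℕ) : S5 := if h : (mat5 c).det = 1 then ⟨mat5 c, h⟩ else 1

/-- The codes used. -/
def used : List ℕ := [17043523, 17043525, 17043529, 17043537, 17045569, 17111105, 19208257, 8540225, 9179201, 8919109]

theorem used_det : ∀ c ∈ used, (mat5 c).det = 1 := by
  simp only [used, List.forall_mem_cons, List.not_mem_nil, false_implies, implies_true, and_true]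
  refine ⟨?_, ?_, ?_, ?_, ?_, ?_, ?_, ?_, ?_, ?_⟩ <;> decide +kernel

theorem sl5_val {c : ℕ} (h : c ∈ used) : (sl5 c).1 = mat5 c := by
  have e : sl5 c = ⟨mat5 c, used_det c h⟩ := dif_pos (used_det c h)
  rw [e]

/-- The transvection. -/
def tS : S5 := sl5 17043523

/-- The first three generators. -/
def aS (i : ℕ) : S5 := sl5 ([17043525, 17043529, 17043537].getD i 17043525)

/-- The other three. -/
def bS (i : ℕ) : S5 := sl5 ([17045569, 17111105, 19208257].getD i 17045569)

/-- The element of order seven. -/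
def xS : S5 := sl5 8540225

/-- The element of order three. -/
def yS : S5 := sl5 9179201

/-- The third element. -/
def rS : S5 := sl5 8919109

theorem tS_val : (tS : Matrix (Fin 5) (Fin 5) (ZMod 2)) = mat5 17043523 := sl5_val (by simp [used])

theorem tS_transvection : (tS : Matrix (Fin 5) (Fin 5) (ZMod 2)) = transvection 0 1 1 := by
  rw [tS_val]; decide +kernel

theorem eq_of_val {g h : S5} (e : g.1 = h.1) : g = h := Subtype.ext e

theorem frame : ExFrame tS aS bS := by
  refine ⟨?_, ?_, ?_, ?_, ?_, ?_, ?_, ?_, ?_⟩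
  · apply eq_of_val; decide +kernel
  · intro h
    have := congrArg Subtype.val h
    revert this
    decide +kernel
  all_goals first | decide +kernel | (simp only [Commute, SemiconjBy]; decide +kernel)

theorem conj_checks : (∀ i < 6, xS * qEl tS aS bS (2 ^ i) * xS⁻¹ = qEl tS aS bS (imX.getD i 0)) ∧
    (∀ i < 6, yS * qEl tS aS bS (2 ^ i) * yS⁻¹ = qEl tS aS bS (imY.getD i 0)) ∧
    (∀ i < 6, rS * qEl tS aS bS (2 ^ i) * rS⁻¹ = qEl tS aS bS ([65, 4, 2, 72, 120, 96].getD i 0)) := by
  simp only [mul_inv_eq_iff_eq_mul]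
  decide +kernel

theorem rel_checks : xS ^ 7 = 1 ∧ yS ^ 3 = 1 ∧ yS * xS * yS⁻¹ = xS * xS ∧ rS * yS * rS⁻¹ = yS * yS ∧
    rS * rS = tS ∧ xS * rS * (xS * rS) * (xS * rS) = 1 := by
  simp only [mul_inv_eq_iff_eq_mul]
  decide +kernel

/-- The extraspecial subgroup. -/
def QS : Subgroup S5 where
  carrier := {g | ∃ v < 128, qEl tS aS bS v = g}
  one_mem' := ⟨0, by norm_num, frame.el_zero⟩
  mul_mem' := by
    rintro _ _ ⟨v, hv, rfl⟩ ⟨w, hw, rfl⟩
    refine ⟨qMul v w, ?_, (frame.el_mul v w).symm⟩
    unfold qMul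
    split_ifs <;> omega
  inv_mem' := by
    rintro _ ⟨v, hv, rfl⟩
    have h : ∀ v < 128, ∃ w < 128, qMul v w = 0 := by decide +kernel
    obtain ⟨w, hw, e⟩ := h v hv
    refine ⟨w, hw, eq_inv_of_mul_eq_one_right ?_⟩
    rw [frame.el_mul, e, frame.el_zero]

theorem card_QS : Nat.card ↥QS = 128 := by
  have hb : Function.Bijective (fun v : Fin 128 => (⟨qEl tS aS bS v, v.val, v.isLt, rfl⟩ : ↥QS)) := by
    refine ⟨fun v w h => Fin.ext (frame.el_inj v.isLt w.isLt (congrArg Subtype.val h)), ?_⟩
    rintro ⟨_, v, hv, rfl⟩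
    exact ⟨⟨v, hv⟩, rfl⟩
  rw [← Nat.card_congr (Equiv.ofBijective _ hb), Nat.card_fin]

/-- The linear part of an element of the centraliser. -/
def part (g : S5) : Matrix (Fin 3) (Fin 3) (ZMod 2) := Matrix.of fun i j => g.1 i.succ.succ j.succ.succ

theorem mem_C {g : S5} : g ∈ centralizer ({tS} : Set S5) ↔
    (g : Matrix (Fin 5) (Fin 5) (ZMod 2)) * transvection 0 1 1 = transvection 0 1 1 * g.1 := by
  rw [mem_centralizer_singleton_iff, ← tS_transvection]
  exact ⟨fun h => congrArg Subtype.val h, fun h => Subtype.ext h⟩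

theorem part_mul {g h : S5} (hg : g ∈ centralizer ({tS} : Set S5)) (hh : h ∈ centralizer ({tS} : Set S5)) :
    part (g * h) = part g * part h := by
  obtain ⟨g1, -, -⟩ := (CfsgLib.Golay.SL52.commute_iff g.1).1 (mem_C.1 hg)
  obtain ⟨-, h2, -⟩ := (CfsgLib.Golay.SL52.commute_iff h.1).1 (mem_C.1 hh)
  ext i j
  show (g.1 * h.1) i.succ.succ j.succ.succ = _
  rw [Matrix.mul_apply, Fin.sum_univ_succ, Fin.sum_univ_succ, g1, zero_mul, zero_add,
    show (Fin.succ 0 : Fin 5) = 1 from rfl, h2 _ (Fin.succ_succ_ne_one j), mul_zero, zero_add]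
  rfl

theorem part_one : part 1 = 1 := by
  simp only [part, Matrix.SpecialLinearGroup.coe_one]
  decide +kernel

theorem gens_C : (∀ i < 7, qEl tS aS bS (2 ^ i) ∈ centralizer ({tS} : Set S5)) ∧
    xS ∈ centralizer ({tS} : Set S5) ∧ yS ∈ centralizer ({tS} : Set S5) ∧ rS ∈ centralizer ({tS} : Set S5) := by
  simp only [mem_centralizer_singleton_iff]
  decide +kernel

theorem part_q : ∀ v < 128, part (qEl tS aS bS v) = 1 := by decide +kernel

theorem qEl_C (v : ℕ) : qEl tS aS bS v ∈ centralizer ({tS} : Set S5) := by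
  have ha : ∀ i < 3, aS i ∈ centralizer ({tS} : Set S5) := fun i hi =>
    mem_centralizer_singleton_iff.2 (frame.ta i hi).eq.symm
  have hb : ∀ i < 3, bS i ∈ centralizer ({tS} : Set S5) := fun i hi =>
    mem_centralizer_singleton_iff.2 (frame.tb i hi).eq.symm
  have ht : tS ∈ centralizer ({tS} : Set S5) := mem_centralizer_singleton_iff.2 rfl
  unfold qEl p3 tB
  have hi : ∀ (b : Bool) (g : S5), g ∈ centralizer ({tS} : Set S5) →
      (if b then g else 1) ∈ centralizer ({tS} : Set S5) := fun b g hg => by cases b <;> simp [hg, one_mem]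
  exact mul_mem (mul_mem (mul_mem (mul_mem (hi _ _ (ha 0 (by norm_num))) (hi _ _ (ha 1 (by norm_num))))
    (hi _ _ (ha 2 (by norm_num)))) (mul_mem (mul_mem (hi _ _ (hb 0 (by norm_num))) (hi _ _ (hb 1 (by norm_num))))
    (hi _ _ (hb 2 (by norm_num))))) (hi _ _ ht)

theorem part_words : ∀ l < 168, ∀ m < 168, part (lWord xS yS rS (lPaths.getD l [])) =
    part (lWord xS yS rS (lPaths.getD m [])) → l = m := by
  have hgen : ∀ k : ℕ, gL xS yS rS k ∈ centralizer ({tS} : Set S5) := fun k => by
    unfold gL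
    split_ifs
    exacts [gens_C.2.1, gens_C.2.2.1, gens_C.2.2.2]
  have hw : ∀ w : List ℕ, part (lWord xS yS rS w) = (w.map fun k => part (gL xS yS rS k)).prod ∧
      lWord xS yS rS w ∈ centralizer ({tS} : Set S5) := by
    intro w
    induction w with
    | nil => exact ⟨by simp [lWord, part_one], by simp [lWord]⟩
    | cons k w ih =>
      simp only [lWord, List.map_cons, List.prod_cons] at ih ⊢
      exact ⟨by rw [part_mul (hgen k) ih.2, ih.1], mul_mem (hgen k) ih.2⟩
  have key : (((List.range 168).map fun l =>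
      ((lPaths.getD l []).map fun k => part (gL xS yS rS k)).prod).map
        fun A : Matrix (Fin 3) (Fin 3) (ZMod 2) => (List.finRange 3).map fun i => (List.finRange 3).map
          fun j => decide (A i j = 1)).Nodup := by
    decide +kernel
  intro l hl m hm h
  rw [(hw _).1, (hw _).1] at h
  refine (List.Nodup.getElem_inj_iff key (i := l) (hi := by simpa using hl) (j := m) (hj := by simpa using hm)).1 ?_
  simp only [List.getElem_map, List.getElem_range]
  rw [h]

theorem gen_eq : QS ⊔ Subgroup.closure {xS, yS, rS} = centralizer ({tS} : Set S5) := by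
  have hle : QS ⊔ Subgroup.closure {xS, yS, rS} ≤ centralizer ({tS} : Set S5) := by
    refine sup_le ?_ ((closure_le _).2 ?_)
    · rintro _ ⟨v, -, rfl⟩
      exact qEl_C v
    · simp only [Set.insert_subset_iff, Set.singleton_subset_iff]
      exact gens_C.2
  refine Subgroup.eq_of_le_of_card_ge hle ?_
  rw [CfsgLib.Golay.SL52.card_centralizer tS tS_transvection]
  set H := QS ⊔ Subgroup.closure {xS, yS, rS}
  have hg : ∀ k : ℕ, gL xS yS rS k ∈ H := fun k => by
    refine mem_sup_right (subset_closure ?_)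
    unfold gL
    split_ifs <;> simp
  have hw : ∀ w : List ℕ, lWord xS yS rS w ∈ H := fun w => list_prod_mem fun z hz => by
    obtain ⟨k, -, rfl⟩ := List.mem_map.1 hz
    exact hg k
  have hinj : Function.Injective (fun p : Fin 128 × Fin 168 =>
      (⟨qEl tS aS bS p.1 * lWord xS yS rS (lPaths.getD p.2 []),
        mul_mem (mem_sup_left ⟨p.1, p.1.isLt, rfl⟩) (hw _)⟩ : ↥H)) := by
    rintro ⟨v, l⟩ ⟨v', l'⟩ h
    have h' := congrArg Subtype.val h
    simp only at h'
    have hp := congrArg part h'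
    rw [part_mul (qEl_C _) (hle (hw _)), part_mul (qEl_C _) (hle (hw _)), part_q _ v.isLt, part_q _ v'.isLt,
      one_mul, one_mul] at hp
    obtain rfl := Fin.ext (part_words _ l.isLt _ l'.isLt hp)
    obtain rfl := Fin.ext (frame.el_inj v.isLt v'.isLt (mul_right_cancel h'))
    rfl
  have := Nat.card_le_card_of_injective _ hinj
  simpa using this

/-- The coordinates in SL(5, 2). -/
theorem coords : Coords tS QS [65, 4, 2, 72, 120, 96] true xS yS rS aS bS where
  good := by simp [goodR]
  frame := frame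
  hQ := fun g => Iff.rfl
  cardQ := card_QS
  cardC := CfsgLib.Golay.SL52.card_centralizer tS tS_transvection
  hQC := by rintro _ ⟨v, -, rfl⟩; exact qEl_C v
  xC := gens_C.2.1
  yC := gens_C.2.2.1
  rC := gens_C.2.2.2
  conjX := conj_checks.1
  conjY := conj_checks.2.1
  conjR := conj_checks.2.2
  x7 := rel_checks.1
  y3 := rel_checks.2.1
  yx := rel_checks.2.2.1
  ry := rel_checks.2.2.2.1
  rr := rel_checks.2.2.2.2.1
  xr := rel_checks.2.2.2.2.2
  gen := gen_eq

end CfsgLib.HeType.SLFive
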