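import Cfsg.Agent.Lib.HeType.Coords.Mul

/-!
Coordinates transported along an embedding of the centraliser.
-/

set_option autoImplicit false
set_option linter.unusedSectionVars false

namespace CfsgLib.HeType

open Subgroup

variable {M G : Type*} [Group M] [Group G]

theorem qEl_map (f : M → G) (S : Subgroup M) (hf : ∀ g ∈ S, ∀ h ∈ S, f (g * h) = f g * f h) (h1 : f 1 = 1)
    {t : M} {a b : ℕ → M} (ht : t ∈ S) (ha : ∀ i < 3, a i ∈ S) (hb : ∀ i < 3, b i ∈ S) (v : ℕ) :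
    qEl t a b v ∈ S ∧ f (qEl t a b v) = qEl (f t) (fun i => f (a i)) (fun i => f (b i)) v := by
  have key : ∀ (e : Bool) (g : M), g ∈ S →
      (if e then g else 1) ∈ S ∧ f (if e then g else 1) = (if e then f g else 1) := fun e g hg => by
    cases e <;> simp [hg, h1, one_mem]
  have mm : ∀ {g h : M} {x y : G}, g ∈ S ∧ f g = x → h ∈ S ∧ f h = y → g * h ∈ S ∧ f (g * h) = x * y := by
    rintro g h x y ⟨hg, rfl⟩ ⟨hh, rfl⟩
    exact ⟨mul_mem hg hh, hf g hg h hh⟩
  exact mm (mm (mm (mm (key _ _ (ha 0 (by norm_num))) (key _ _ (ha 1 (by norm_num)))) (key _ _ (ha 2 (by norm_num))))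
    (mm (mm (key _ _ (hb 0 (by norm_num))) (key _ _ (hb 1 (by norm_num)))) (key _ _ (hb 2 (by norm_num)))))
    (key _ _ ht)

/-- Coordinates map along an isomorphism of centralisers which sends the one involution to the other. -/
theorem Coords.map {t : M} {Q : Subgroup M} {R : List ℕ} {e : Bool} {x y r : M} {a b : ℕ → M}
    (h : Coords t Q R e x y r a b) {t' : G}
    (ψ : ↥(centralizer ({t} : Set M)) ≃* ↥(centralizer ({t'} : Set G)))
    (hψ : (ψ ⟨t, mem_centralizer_singleton_iff.2 rfl⟩ : G) = t') :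
    ∃ (Q' : Subgroup G) (x' y' r' : G) (a' b' : ℕ → G), Coords t' Q' R e x' y' r' a' b' := by
  classical
  let S := centralizer ({t} : Set M)
  let C' := centralizer ({t'} : Set G)
  have F := h.frame
  have htS : t ∈ S := mem_centralizer_singleton_iff.2 rfl
  have haS : ∀ i < 3, a i ∈ S := fun i hi => mem_centralizer_singleton_iff.2 (F.ta i hi).eq.symm
  have hbS : ∀ i < 3, b i ∈ S := fun i hi => mem_centralizer_singleton_iff.2 (F.tb i hi).eq.symm
  let f : M → G := fun g => if hg : g ∈ S then (ψ ⟨g, hg⟩ : G) else 1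
  have fv : ∀ {g : M} (hg : g ∈ S), f g = (ψ ⟨g, hg⟩ : G) := fun {g} hg => dif_pos hg
  have hf : ∀ g ∈ S, ∀ k ∈ S, f (g * k) = f g * f k := fun g hg k hk => by
    rw [fv hg, fv hk, fv (mul_mem hg hk), ← Subgroup.coe_mul, ← map_mul]; rfl
  have h1 : f 1 = 1 := by
    rw [fv (one_mem S)]
    exact congrArg Subtype.val (map_one ψ)
  have fi : ∀ g ∈ S, f g⁻¹ = (f g)⁻¹ := fun g hg => by
    refine eq_inv_of_mul_eq_one_right ?_
    rw [← hf g hg _ (inv_mem hg), mul_inv_cancel, h1]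
  have fC : ∀ g ∈ S, f g ∈ C' := fun g hg => by rw [fv hg]; exact (ψ ⟨g, hg⟩).2
  have finj : ∀ g ∈ S, ∀ k ∈ S, f g = f k → g = k := fun g hg k hk e => by
    rw [fv hg, fv hk] at e
    exact congrArg Subtype.val (ψ.injective (Subtype.ext e))
  have ft : f t = t' := (fv htS).trans hψ
  have fq : ∀ v, qEl t a b v ∈ S ∧ f (qEl t a b v) = qEl t' (fun i => f (a i)) (fun i => f (b i)) v := fun v => by
    have := qEl_map f S hf h1 htS haS hbS v
    rwa [ft] at this
  have fconj : ∀ {g : M}, g ∈ S → ∀ v w, g * qEl t a b v * g⁻¹ = qEl t a b w →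
      f g * qEl t' (fun i => f (a i)) (fun i => f (b i)) v * (f g)⁻¹ =
        qEl t' (fun i => f (a i)) (fun i => f (b i)) w := fun {g} hg v w e => by
    rw [← (fq v).2, ← (fq w).2, ← fi g hg, ← hf g hg _ (fq v).1,
      ← hf _ (mul_mem hg (fq v).1) _ (inv_mem hg), e]
  have mulr : ∀ {g k : M} {u v : G}, g ∈ S ∧ f g = u → k ∈ S ∧ f k = v → g * k ∈ S ∧ f (g * k) = u * v := by
    rintro g k u v ⟨hg, rfl⟩ ⟨hk, rfl⟩
    exact ⟨mul_mem hg hk, hf g hg k hk⟩
  have X : x ∈ S ∧ f x = f x := ⟨h.xC, rfl⟩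
  have Y : y ∈ S ∧ f y = f y := ⟨h.yC, rfl⟩
  have R' : r ∈ S ∧ f r = f r := ⟨h.rC, rfl⟩
  have inr : ∀ {g : M} {u : G}, g ∈ S ∧ f g = u → g⁻¹ ∈ S ∧ f g⁻¹ = u⁻¹ := by
    rintro g u ⟨hg, rfl⟩
    exact ⟨inv_mem hg, fi g hg⟩
  have eqf : ∀ {g k : M} {u v : G}, g ∈ S ∧ f g = u → k ∈ S ∧ f k = v → g = k → u = v := by
    rintro g k u v ⟨-, rfl⟩ ⟨-, rfl⟩ rfl
    rfl
  have one' : (1 : M) ∈ S ∧ f 1 = 1 := ⟨one_mem S, h1⟩
  have T : t ∈ S ∧ f t = t' := ⟨htS, ft⟩
  have A : ∀ i < 3, a i ∈ S ∧ f (a i) = f (a i) := fun i hi => ⟨haS i hi, rfl⟩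
  have B : ∀ i < 3, b i ∈ S ∧ f (b i) = f (b i) := fun i hi => ⟨hbS i hi, rfl⟩
  have TB : ∀ d : Bool, tB t d ∈ S ∧ f (tB t d) = tB t' d := fun d => by
    cases d <;> simp [tB, one', T]
  let ι : ↥(Q.subgroupOf S) →* G := (C'.subtype.comp ψ.toMonoidHom).comp (Q.subgroupOf S).subtype
  refine ⟨ι.range, f x, f y, f r, fun i => f (a i), fun i => f (b i), ?_⟩
  have hι : ∀ g : G, g ∈ ι.range ↔ ∃ u ∈ Q, f u = g := fun g => by
    constructor
    · rintro ⟨⟨⟨u, huS⟩, huQ⟩, rfl⟩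
      exact ⟨u, huQ, fv huS⟩
    · rintro ⟨u, hu, rfl⟩
      exact ⟨⟨⟨u, h.hQC hu⟩, hu⟩, (fv (h.hQC hu)).symm⟩
  refine
    { good := h.good
      frame := ⟨eqf (mulr T T) one' F.tt, ?_, fun i hi => eqf (mulr T (A i hi)) (mulr (A i hi) T) (F.ta i hi),
        fun i hi => eqf (mulr T (B i hi)) (mulr (B i hi) T) (F.tb i hi),
        fun i hi => eqf (mulr (A i hi) (A i hi)) one' (F.aa i hi),
        fun i hi => eqf (mulr (B i hi) (B i hi)) one' (F.bb i hi),
        fun i hi j hj => eqf (mulr (A i hi) (A j hj)) (mulr (A j hj) (A i hi)) (F.a_comm i hi j hj),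
        fun i hi j hj => eqf (mulr (B i hi) (B j hj)) (mulr (B j hj) (B i hi)) (F.b_comm i hi j hj),
        fun i hi j hj => eqf (mulr (B j hj) (A i hi)) (mulr (mulr (A i hi) (B j hj)) (TB _)) (F.ab i hi j hj)⟩
      hQ := ?_
      cardQ := ?_
      cardC := (Nat.card_congr ψ.toEquiv).symm.trans h.cardC
      hQC := ?_
      xC := fC x h.xC
      yC := fC y h.yC
      rC := fC r h.rC
      conjX := fun i hi => fconj h.xC _ _ (h.conjX i hi)
      conjY := fun i hi => fconj h.yC _ _ (h.conjY i hi)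
      conjR := fun i hi => fconj h.rC _ _ (h.conjR i hi)
      x7 := ?_
      y3 := ?_
      yx := eqf (mulr (mulr Y X) (inr Y)) (mulr X X) h.yx
      ry := eqf (mulr (mulr R' Y) (inr R')) (mulr Y Y) h.ry
      rr := eqf (mulr R' R') (TB e) h.rr
      xr := eqf (mulr (mulr (mulr X R') (mulr X R')) (mulr X R')) one' h.xr
      gen := ?_ }
  · exact fun e' => F.t_ne (finj t htS 1 (one_mem S) (ft.trans (e'.trans h1.symm)))
  · intro g
    rw [hι]
    constructor
    · rintro ⟨u, hu, rfl⟩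
      obtain ⟨v, hv, rfl⟩ := (h.hQ u).1 hu
      exact ⟨v, hv, (fq v).2.symm⟩
    · rintro ⟨v, hv, rfl⟩
      exact ⟨_, (h.hQ _).2 ⟨v, hv, rfl⟩, (fq v).2⟩
  · have hinj : Function.Injective ι := fun u v e =>
      Subtype.ext (ψ.injective (Subtype.ext e))
    rw [← Nat.card_congr (MonoidHom.ofInjective hinj).toEquiv, Nat.card_congr (Subgroup.subgroupOfEquivOfLe h.hQC).toEquiv,
      h.cardQ]
  · intro g hg
    obtain ⟨u, hu, rfl⟩ := (hι g).1 hg
    exact fC u (h.hQC hu)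
  · have e7 := eqf (mulr (mulr (mulr (mulr (mulr (mulr X X) X) X) X) X) X) one' (by
      simpa [pow_succ] using h.x7)
    simpa [pow_succ] using e7
  · have e3 := eqf (mulr (mulr Y Y) Y) one' (by simpa [pow_succ] using h.y3)
    simpa [pow_succ] using e3
  · refine le_antisymm (sup_le ?_ ((closure_le _).2 ?_)) ?_
    · intro g hg
      obtain ⟨u, hu, rfl⟩ := (hι g).1 hg
      exact fC u (h.hQC hu)
    · simp only [Set.insert_subset_iff, Set.singleton_subset_iff]
      exact ⟨fC x h.xC, fC y h.yC, fC r h.rC⟩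
    · intro g hg
      set H := ι.range ⊔ Subgroup.closure {f x, f y, f r}
      let K : Subgroup M :=
        { carrier := {u | u ∈ S ∧ f u ∈ H}
          one_mem' := ⟨one_mem S, by rw [h1]; exact one_mem H⟩
          mul_mem' := fun {u v} hu hv => ⟨mul_mem hu.1 hv.1, by rw [hf u hu.1 v hv.1]; exact mul_mem hu.2 hv.2⟩
          inv_mem' := fun {u} hu => ⟨inv_mem hu.1, by rw [fi u hu.1]; exact inv_mem hu.2⟩ }
      have hK : S ≤ K := by
        show centralizer ({t} : Set M) ≤ K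
        rw [← h.gen]
        refine sup_le (fun u hu => ⟨h.hQC hu, mem_sup_left ((hι _).2 ⟨u, hu, rfl⟩)⟩) ((closure_le _).2 ?_)
        simp only [Set.insert_subset_iff, Set.singleton_subset_iff]
        exact ⟨⟨h.xC, mem_sup_right (subset_closure (by simp))⟩, ⟨h.yC, mem_sup_right (subset_closure (by simp))⟩,
          ⟨h.rC, mem_sup_right (subset_closure (by simp))⟩⟩
      have hu := (hK (ψ.symm ⟨g, hg⟩).2).2
      rw [fv (ψ.symm ⟨g, hg⟩).2] at hu
      simpa using hu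

end CfsgLib.HeType
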